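import Cfsg.Agent.ChevalleyStructure.Ree3.K8
import Cfsg.Agent.ChevalleyStructure.Ree3.Packed

/-!
The 56 vectors of the orbit of the lowest long root vector under `²G₂(3)`, labelled by the matrices of
trace one and determinant one over the field with eight elements, and the kernel check that the
generating words of `²G₂(3)` act on the labels by semilinear conjugation.
-/

set_option autoImplicit false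

namespace Cfsg.Agent.ChevalleyStructure.Ree3.Check

open Matrix Cfsg.Lie Cfsg.Agent.ChevalleyStructure.Ree3.G2F3 Cfsg.Agent.ChevalleyStructure.Ree3.Packed
open Cfsg.Agent.ChevalleyStructure.Ree3.K8 (K8)

def vtab : List (ℕ × List ℕ) := [
  (9, [0, 0, 1, 0, 0, 0, 0, 0, 0, 0, 0, 0, 0, 0]),
  (21, [2, 0, 1, 1, 0, 0, 0, 1, 1, 0, 0, 0, 1, 1]),
  (30, [2, 1, 2, 2, 1, 1, 0, 1, 2, 0, 1, 2, 2, 1]),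
  (39, [1, 2, 2, 0, 0, 1, 0, 0, 0, 1, 0, 1, 1, 1]),
  (42, [2, 2, 1, 2, 1, 2, 2, 0, 1, 2, 1, 0, 2, 1]),
  (51, [0, 1, 1, 0, 1, 2, 1, 2, 2, 1, 0, 2, 1, 1]),
  (60, [2, 0, 1, 1, 2, 1, 2, 2, 0, 0, 1, 1, 2, 1]),
  (73, [0, 0, 2, 0, 0, 0, 0, 0, 0, 0, 0, 0, 0, 0]),
  (85, [1, 0, 2, 2, 0, 0, 0, 2, 2, 0, 0, 0, 2, 2]),
  (94, [1, 2, 1, 1, 2, 2, 0, 2, 1, 0, 2, 1, 1, 2]),
  (103, [2, 1, 1, 0, 0, 2, 0, 0, 0, 2, 0, 2, 2, 2]),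
  (106, [1, 1, 2, 1, 2, 1, 1, 0, 2, 1, 2, 0, 1, 2]),
  (115, [0, 2, 2, 0, 2, 1, 2, 1, 1, 2, 0, 1, 2, 2]),
  (124, [1, 0, 2, 2, 1, 2, 1, 1, 0, 0, 2, 2, 1, 2]),
  (143, [2, 1, 1, 2, 1, 0, 1, 0, 0, 0, 2, 0, 0, 2]),
  (150, [0, 2, 1, 1, 0, 1, 1, 1, 2, 2, 1, 0, 1, 2]),
  (156, [2, 0, 1, 2, 1, 1, 0, 0, 2, 2, 1, 2, 1, 1]),
  (163, [0, 2, 1, 0, 1, 1, 1, 2, 2, 1, 0, 2, 2, 1]),
  (173, [2, 2, 2, 0, 1, 1, 2, 2, 2, 2, 1, 1, 0, 2]),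
  (178, [2, 2, 2, 2, 2, 2, 1, 0, 2, 1, 1, 0, 2, 2]),
  (185, [0, 0, 0, 0, 0, 0, 0, 0, 0, 0, 0, 0, 0, 2]),
  (207, [1, 2, 2, 1, 2, 0, 2, 0, 0, 0, 1, 0, 0, 1]),
  (214, [0, 1, 2, 2, 0, 2, 2, 2, 1, 1, 2, 0, 2, 1]),
  (220, [1, 0, 2, 1, 2, 2, 0, 0, 1, 1, 2, 1, 2, 2]),
  (227, [0, 1, 2, 0, 2, 2, 2, 1, 1, 2, 0, 1, 1, 2]),
  (237, [1, 1, 1, 0, 2, 2, 1, 1, 1, 1, 2, 2, 0, 1]),
  (242, [1, 1, 1, 1, 1, 1, 2, 0, 1, 2, 2, 0, 1, 1]),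
  (249, [0, 0, 0, 0, 0, 0, 0, 0, 0, 0, 0, 0, 0, 1]),
  (267, [0, 1, 2, 1, 1, 0, 2, 1, 1, 2, 2, 2, 0, 2]),
  (276, [2, 0, 2, 1, 1, 1, 1, 1, 0, 0, 1, 2, 2, 2]),
  (281, [0, 0, 1, 0, 2, 0, 1, 1, 1, 2, 0, 2, 0, 2]),
  (290, [1, 1, 2, 1, 0, 2, 1, 2, 0, 1, 1, 2, 1, 2]),
  (302, [0, 2, 2, 1, 0, 1, 2, 2, 1, 1, 1, 0, 1, 1]),
  (309, [1, 0, 1, 2, 0, 0, 0, 1, 1, 0, 0, 0, 2, 1]),
  (319, [1, 2, 1, 1, 1, 0, 1, 0, 0, 0, 1, 0, 0, 2]),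
  (331, [0, 2, 1, 2, 2, 0, 1, 2, 2, 1, 1, 1, 0, 1]),
  (340, [1, 0, 1, 2, 2, 2, 2, 2, 0, 0, 2, 1, 1, 1]),
  (345, [0, 0, 2, 0, 1, 0, 2, 2, 2, 1, 0, 1, 0, 1]),
  (354, [2, 2, 1, 2, 0, 1, 2, 1, 0, 2, 2, 1, 2, 1]),
  (366, [0, 1, 1, 2, 0, 2, 1, 1, 2, 2, 2, 0, 2, 2]),
  (373, [2, 0, 2, 1, 0, 0, 0, 2, 2, 0, 0, 0, 1, 2]),
  (383, [2, 1, 2, 2, 2, 0, 2, 0, 0, 0, 2, 0, 0, 1]),
  (397, [1, 1, 2, 0, 1, 2, 2, 2, 2, 2, 2, 1, 0, 2]),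
  (407, [2, 1, 2, 0, 0, 2, 0, 0, 0, 1, 0, 1, 2, 1]),
  (411, [0, 2, 2, 2, 1, 0, 2, 1, 1, 2, 1, 2, 0, 2]),
  (422, [2, 1, 1, 2, 2, 1, 0, 2, 1, 0, 1, 1, 2, 2]),
  (425, [0, 0, 1, 0, 1, 0, 1, 2, 2, 2, 0, 1, 0, 2]),
  (436, [2, 0, 2, 2, 2, 1, 0, 0, 1, 1, 1, 1, 1, 2]),
  (442, [1, 1, 1, 1, 0, 2, 2, 1, 0, 2, 1, 1, 1, 1]),
  (461, [2, 2, 1, 0, 2, 1, 1, 1, 1, 1, 1, 2, 0, 1]),
  (471, [1, 2, 1, 0, 0, 1, 0, 0, 0, 2, 0, 2, 1, 2]),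
  (475, [0, 1, 1, 1, 2, 0, 1, 2, 2, 1, 2, 1, 0, 1]),
  (486, [1, 2, 2, 1, 1, 2, 0, 1, 2, 0, 2, 2, 1, 1]),
  (489, [0, 0, 2, 0, 2, 0, 2, 1, 1, 1, 0, 2, 0, 1]),
  (500, [1, 0, 1, 1, 1, 2, 0, 0, 2, 2, 2, 2, 2, 1]),
  (506, [2, 2, 2, 2, 0, 1, 1, 2, 0, 1, 2, 2, 2, 2])]

/-- look up a key in an association list -/
def look : List (ℕ × List ℕ) → ℕ → List ℕ
  | [], _ => []
  | (k, l) :: t, n => bif Nat.beq k n then l else look t n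

/-- key of the matrix `[[x, y], [z, x + 1]]` -/
def key (x y z : K8) : ℕ := 64 * x.v.val + 8 * y.v.val + z.v.val

/-- iterated Frobenius -/
def fr : ℕ → K8 → K8
  | 0, x => x
  | n + 1, x => fr n (x * x)

/-- entries `(0,0), (0,1), (1,0)` of `A * σ^n M * A⁻¹`, `A = [[a, b], [c, d]]`, `M = [[x, y], [z, x + 1]]` -/
def act3 (a b c d : K8) (n : ℕ) (x y z : K8) : K8 × K8 × K8 :=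
  ((a * fr n x + b * fr n z) * d + (a * fr n y + b * (fr n x + 1)) * c,
   (a * fr n x + b * fr n z) * b + (a * fr n y + b * (fr n x + 1)) * a,
   (c * fr n x + d * fr n z) * d + (c * fr n y + d * (fr n x + 1)) * c)

/-- the check for one word -/
def chk (w : List (ℕ × ZMod 3)) (e : ℕ × ℕ × ℕ × ℕ × ℕ) : Bool :=
  vtab.all fun k =>
    let m := act3 (Cfsg.Agent.ChevalleyStructure.Ree3.K8.mk e.1) (Cfsg.Agent.ChevalleyStructure.Ree3.K8.mk e.2.1) (Cfsg.Agent.ChevalleyStructure.Ree3.K8.mk e.2.2.1) (Cfsg.Agent.ChevalleyStructure.Ree3.K8.mk e.2.2.2.1) e.2.2.2.2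
      (Cfsg.Agent.ChevalleyStructure.Ree3.K8.mk (k.1 / 64)) (Cfsg.Agent.ChevalleyStructure.Ree3.K8.mk (k.1 / 8)) (Cfsg.Agent.ChevalleyStructure.Ree3.K8.mk k.1)
    runc w k.2 == look vtab (key m.1 m.2.1 m.2.2)

def dataU : List (ℕ × ℕ × ℕ × ℕ × ℕ) := [
  (1, 0, 0, 1, 0),
  (2, 7, 1, 3, 0),
  (3, 7, 1, 2, 0),
  (1, 4, 0, 1, 2),
  (2, 4, 1, 7, 2),
  (3, 0, 1, 6, 2),
  (1, 6, 0, 1, 1),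
  (2, 0, 1, 5, 1),
  (3, 6, 1, 4, 1),
  (3, 5, 6, 7, 1),
  (2, 2, 2, 7, 1),
  (1, 7, 4, 0, 1),
  (3, 4, 6, 5, 0),
  (2, 5, 2, 0, 0),
  (1, 1, 4, 5, 0),
  (3, 3, 6, 0, 2),
  (2, 6, 2, 3, 2),
  (1, 5, 4, 3, 2),
  (5, 7, 6, 1, 1),
  (5, 2, 4, 4, 1),
  (0, 5, 2, 5, 1),
  (5, 4, 6, 3, 0),
  (5, 1, 4, 1, 0),
  (0, 5, 2, 2, 0),
  (5, 6, 6, 6, 2),
  (5, 3, 4, 7, 2),
  (0, 5, 2, 1, 2)]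

def dataV : List (ℕ × ℕ × ℕ × ℕ × ℕ) := [
  (1, 0, 0, 1, 0),
  (0, 1, 1, 1, 0),
  (1, 1, 1, 0, 0),
  (1, 0, 0, 1, 2),
  (0, 1, 1, 1, 2),
  (1, 1, 1, 0, 2),
  (1, 0, 0, 1, 1),
  (0, 1, 1, 1, 1),
  (1, 1, 1, 0, 1),
  (4, 6, 6, 2, 1),
  (6, 2, 2, 4, 1),
  (2, 4, 4, 6, 1),
  (4, 6, 6, 2, 0),
  (6, 2, 2, 4, 0),
  (2, 4, 4, 6, 0),
  (4, 6, 6, 2, 2),
  (6, 2, 2, 4, 2),
  (2, 4, 4, 6, 2),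
  (2, 6, 6, 4, 1),
  (6, 4, 4, 2, 1),
  (4, 2, 2, 6, 1),
  (2, 6, 6, 4, 0),
  (6, 4, 4, 2, 0),
  (4, 2, 2, 6, 0),
  (2, 6, 6, 4, 2),
  (6, 4, 4, 2, 2),
  (4, 2, 2, 6, 2)]

theorem chkU : ∀ t u v : ZMod 3,
    chk (reeWordU 1 t u v) (dataU.getD (9 * t.val + 3 * u.val + v.val) (0, 0, 0, 0, 0)) = true := by
  decide +kernel

theorem chkV : ∀ t u v : ZMod 3,
    chk (reeWordV 1 t u v) (dataV.getD (9 * t.val + 3 * u.val + v.val) (0, 0, 0, 0, 0)) = true := by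
  decide +kernel

end Cfsg.Agent.ChevalleyStructure.Ree3.Check
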