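import Cfsg.Agent.ChevalleyStructure.Ree3.Gens

/-!
`²G₂(3)' ≅ SL₂(8) ≅ PSL₂(8)`.
-/

set_option autoImplicit false

namespace Cfsg.Agent.ChevalleyStructure.Ree3.Final

open Matrix Cfsg.Lie Cfsg.Agent.ChevalleyStructure.Ree3.G2F3 Cfsg.Agent.ChevalleyStructure.Ree3.Packed
  Cfsg.Agent.ChevalleyStructure.Ree3.Check Cfsg.Agent.ChevalleyStructure.Ree3.Semilin
  Cfsg.Agent.ChevalleyStructure.Ree3.RelChk Cfsg.Agent.ChevalleyStructure.Ree3.Span
  Cfsg.Agent.ChevalleyStructure.Ree3.Gens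
open Cfsg.Agent.ChevalleyStructure.Ree3.K8 (K8)
open Cfsg.Agent.LieClassical.SmallIso (transSet closure_transSet card_sl_two mem_center_sl_two_iff
  pslCongr)

/-- entries of the product `A * σ^n B` -/
theorem mulfr_entries (A B : SL) (n : ℕ) (i j : Fin 2) :
    toM (A * slMap (frob ^ (n : ℤ)) B) i j = toM A i 0 * fr n (toM B 0 j) + toM A i 1 * fr n (toM B 1 j) := by
  rw [toM_mul, slMap_coe, Matrix.mul_apply, Fin.sum_univ_two, Matrix.map_apply, Matrix.map_apply,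
    frob_pow_apply, frob_pow_apply]

/-- quadruples -/
abbrev Q : Type := K8 × K8 × K8 × K8

/-- quadruple of a matrix -/
def toQ (A : SL) : Q := (toM A 0 0, toM A 0 1, toM A 1 0, toM A 1 1)

/-- product `A * σ^n B` of quadruples -/
def mulQ (A B : Q) (n : ℕ) : Q :=
  (A.1 * fr n B.1 + A.2.1 * fr n B.2.2.1, A.1 * fr n B.2.1 + A.2.1 * fr n B.2.2.2,
    A.2.2.1 * fr n B.1 + A.2.2.2 * fr n B.2.2.1, A.2.2.1 * fr n B.2.1 + A.2.2.2 * fr n B.2.2.2)

theorem toQ_mul (A B : SL) (n : ℕ) : toQ (A * slMap (frob ^ (n : ℤ)) B) = mulQ (toQ A) (toQ B) n := by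
  simp only [toQ, mulQ, mulfr_entries]

theorem toQ_mul' (A B : SL) : toQ (A * B) = mulQ (toQ A) (toQ B) 0 := by
  have h := toQ_mul A B 0
  have e : slMap (frob ^ ((0 : ℕ) : ℤ)) B = B := by
    apply Subtype.ext
    change toM (slMap (frob ^ ((0 : ℕ) : ℤ)) B) = toM B
    rw [slMap_coe]
    ext i j
    rw [Matrix.map_apply, frob_pow_apply]
    rfl
  rw [e] at h
  exact h

theorem toQ_inj {A B : SL} (h : toQ A = toQ B) : A = B := by
  apply Subtype.ext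
  change toM A = toM B
  have h1 : toM A 0 0 = toM B 0 0 := congrArg Prod.fst h
  have h2 : toM A 0 1 = toM B 0 1 := congrArg (fun x => x.2.1) h
  have h3 : toM A 1 0 = toM B 1 0 := congrArg (fun x => x.2.2.1) h
  have h4 : toM A 1 1 = toM B 1 1 := congrArg (fun x => x.2.2.2) h
  ext i j
  fin_cases i <;> fin_cases j
  · exact h1
  · exact h2
  · exact h3
  · exact h4

/-- quadruple of data -/
def dQ (e : ℕ × ℕ × ℕ × ℕ × ℕ) : Q :=
  (Cfsg.Agent.ChevalleyStructure.Ree3.K8.mk e.1, Cfsg.Agent.ChevalleyStructure.Ree3.K8.mk e.2.1,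
    Cfsg.Agent.ChevalleyStructure.Ree3.K8.mk e.2.2.1, Cfsg.Agent.ChevalleyStructure.Ree3.K8.mk e.2.2.2.1)

theorem toQ_slq (e : ℕ × ℕ × ℕ × ℕ × ℕ) (h : detOK e) : toQ (slq e) = dQ e := by
  rw [toQ, slq_eq e h]; rfl

/-- relation with data: quadruple and exponent -/
def RelQ (g : GL chevG2.Idx (ZMod 3)) (q : Q) (n : ℕ) : Prop := ∃ A : SL, toQ A = q ∧ Semilin.Rel g A (n : ℤ)

theorem relQ_eU (t u v : ZMod 3) : RelQ (eU t u v : GL chevG2.Idx (ZMod 3)) (dQ (dU t u v)) (dU t u v).2.2.2.2 :=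
  ⟨_, toQ_slq _ (detU t u v), rel_eU t u v⟩

theorem relQ_eV (t u v : ZMod 3) : RelQ (eV t u v : GL chevG2.Idx (ZMod 3)) (dQ (dV t u v)) (dV t u v).2.2.2.2 :=
  ⟨_, toQ_slq _ (detV t u v), rel_eV t u v⟩

theorem RelQ.mul {g h : GL chevG2.Idx (ZMod 3)} {p q : Q} {n m : ℕ} (h1 : RelQ g p n) (h2 : RelQ h q m) :
    RelQ (g * h) (mulQ p q n) (n + m) := by
  obtain ⟨A, hA, h3⟩ := h1
  obtain ⟨B, hB, h4⟩ := h2
  refine ⟨A * slMap (frob ^ (n : ℤ)) B, ?_, ?_⟩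
  · rw [toQ_mul, hA, hB]
  · have := h3.mul h4
    rw [Nat.cast_add]
    exact this

theorem relQ_mulG {x y : ↥Gr} {p q : Q} {n m : ℕ} (h1 : RelQ (x : GL chevG2.Idx (ZMod 3)) p n)
    (h2 : RelQ (y : GL chevG2.Idx (ZMod 3)) q m) :
    RelQ ((x * y : ↥Gr) : GL chevG2.Idx (ZMod 3)) (mulQ p q n) (n + m) := by
  rw [Subgroup.coe_mul]
  exact h1.mul h2

theorem relQ_comm {x y : GL chevG2.Idx (ZMod 3)} {p q : Q} {n m : ℕ} {T : SL} (h1 : RelQ x p n)
    (h2 : RelQ y q m) (h : mulQ p q n = mulQ (toQ T) (mulQ q p m) 0) :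
    Semilin.Rel (x * y * x⁻¹ * y⁻¹) T 0 := by
  obtain ⟨A, hA, h3⟩ := h1
  obtain ⟨B, hB, h4⟩ := h2
  refine rel_comm h3 h4 ?_
  apply toQ_inj
  rw [toQ_mul, toQ_mul', toQ_mul, hA, hB, h]

/-- elements of `SL₂(8)` hit by the derived subgroup -/
def Hit (T : SL) : Prop := ∃ g : ↥Gr, g ∈ commutator ↥Gr ∧ Semilin.Rel (g : GL chevG2.Idx (ZMod 3)) T 0

theorem hit_comm {x y : ↥Gr} {p q : Q} {n m : ℕ} {T : SL} (h1 : RelQ (x : GL chevG2.Idx (ZMod 3)) p n)
    (h2 : RelQ (y : GL chevG2.Idx (ZMod 3)) q m) (h : mulQ p q n = mulQ (toQ T) (mulQ q p m) 0) : Hit T := by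
  refine ⟨x * y * x⁻¹ * y⁻¹, ?_, ?_⟩
  · rw [← commutatorElement_def]
    exact Subgroup.commutator_mem_commutator (Subgroup.mem_top _) (Subgroup.mem_top _)
  · exact relQ_comm h1 h2 h

/-- upper transvection -/
def up (b : K8) : SL := Matrix.SpecialLinearGroup.transvection (zero_ne_one : (0 : Fin 2) ≠ 1) b

/-- lower transvection -/
def lo (b : K8) : SL := Matrix.SpecialLinearGroup.transvection (one_ne_zero : (1 : Fin 2) ≠ 0) b

theorem toQ_up (b : K8) : toQ (up b) = (1, b, 0, 1) := by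
  have h : toM (up b) = (1 : M2) + Matrix.single 0 1 b :=
    Matrix.SpecialLinearGroup.transvection_coe _ _
  simp [toQ, h, Matrix.add_apply]

theorem toQ_lo (b : K8) : toQ (lo b) = (1, 0, b, 1) := by
  have h : toM (lo b) = (1 : M2) + Matrix.single 1 0 b :=
    Matrix.SpecialLinearGroup.transvection_coe _ _
  simp [toQ, h, Matrix.add_apply]

theorem hit_l1 : Hit (lo 1) := by
  refine hit_comm (relQ_eU 1 0 2) (relQ_mulG (relQ_eU 0 1 0) (relQ_eV 2 1 1)) ?_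
  rw [toQ_lo]
  decide +kernel

theorem hit_u2 : Hit (up (Cfsg.Agent.ChevalleyStructure.Ree3.K8.mk 2)) := by
  refine hit_comm (relQ_eU 0 1 0) (relQ_eV 0 2 0) ?_
  rw [toQ_up]
  decide +kernel

theorem hit_l2 : Hit (lo (Cfsg.Agent.ChevalleyStructure.Ree3.K8.mk 2)) := by
  refine hit_comm (relQ_eU 1 1 2) (relQ_eV 0 2 0) ?_
  rw [toQ_lo]
  decide +kernel

theorem hit_u4 : Hit (up (Cfsg.Agent.ChevalleyStructure.Ree3.K8.mk 4)) := by
  refine hit_comm (relQ_eU 0 2 0) (relQ_eV 0 2 0) ?_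
  rw [toQ_up]
  decide +kernel

theorem hit_l4 : Hit (lo (Cfsg.Agent.ChevalleyStructure.Ree3.K8.mk 4)) := by
  refine hit_comm (relQ_eV 0 1 0) (relQ_mulG (relQ_eU 1 2 1) (relQ_eV 1 0 0)) ?_
  rw [toQ_lo]
  decide +kernel

theorem hit_u1 : Hit (up 1) := by
  refine hit_comm (relQ_mulG (relQ_eU 0 0 1) (relQ_eV 0 0 2))
    (relQ_mulG (relQ_eU 0 1 0) (relQ_eV 1 2 2)) ?_
  rw [toQ_up]
  decide +kernel

/-- additive generators of `K8` -/
def gset : Set K8 := {1, Cfsg.Agent.ChevalleyStructure.Ree3.K8.mk 2, Cfsg.Agent.ChevalleyStructure.Ree3.K8.mk 4}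

theorem gset_span : ∀ x : Fin 8, ∃ a b c : Bool,
    (⟨x⟩ : K8) = (bif a then 1 else 0) + (bif b then Cfsg.Agent.ChevalleyStructure.Ree3.K8.mk 2 else 0) +
      (bif c then Cfsg.Agent.ChevalleyStructure.Ree3.K8.mk 4 else 0) := by
  decide +kernel

theorem closure_gset : AddSubgroup.closure gset = ⊤ := by
  rw [eq_top_iff]
  intro x _
  obtain ⟨a, b, c, h⟩ := gset_span x.v
  have h' : x = (bif a then 1 else 0) + (bif b then Cfsg.Agent.ChevalleyStructure.Ree3.K8.mk 2 else 0) +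
      (bif c then Cfsg.Agent.ChevalleyStructure.Ree3.K8.mk 4 else 0) := h
  rw [h']
  have hmem : ∀ (y : K8) (b : Bool), y ∈ gset → (bif b then y else 0) ∈ AddSubgroup.closure gset := by
    intro y b hy
    cases b
    · exact AddSubgroup.zero_mem _
    · exact AddSubgroup.subset_closure hy
  exact add_mem (add_mem (hmem _ a (by simp [gset])) (hmem _ b (by simp [gset])))
    (hmem _ c (by simp [gset]))

theorem hit_all (T : SL) : Hit T := by
  have hT : T ∈ Subgroup.closure (transSet gset) := by rw [closure_transSet closure_gset]; trivial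
  refine Subgroup.closure_induction (p := fun T _ => Hit T) ?_ ?_ ?_ ?_ hT
  · rintro T ⟨b, hb, h⟩
    rcases hb with rfl | rfl | rfl <;> rcases h with rfl | rfl
    · exact hit_u1
    · exact hit_l1
    · exact hit_u2
    · exact hit_l2
    · exact hit_u4
    · exact hit_l4
  · exact ⟨1, one_mem _, Semilin.Rel.one⟩
  · rintro A B _ _ ⟨g, hg, h1⟩ ⟨h, hh, h2⟩
    exact ⟨g * h, mul_mem hg hh, rel0_mul h1 h2⟩
  · rintro A _ ⟨g, hg, h1⟩
    exact ⟨g⁻¹, inv_mem hg, rel0_inv h1⟩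

theorem rel_of_commutator (g : ↥Gr) (hg : g ∈ commutator ↥Gr) :
    ∃ A : SL, Semilin.Rel (g : GL chevG2.Idx (ZMod 3)) A 0 := by
  rw [commutator_eq_closure] at hg
  refine Subgroup.closure_induction
    (p := fun (g : ↥Gr) _ => ∃ A : SL, Semilin.Rel (g : GL chevG2.Idx (ZMod 3)) A 0) ?_ ?_ ?_ ?_ hg
  · rintro _ ⟨x, y, rfl⟩
    obtain ⟨A, n, h1⟩ := rel_of_mem x.1 x.2
    obtain ⟨B, m, h2⟩ := rel_of_mem y.1 y.2
    exact ⟨_, h1.comm h2⟩
  · exact ⟨1, Semilin.Rel.one⟩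
  · rintro x y _ _ ⟨A, h1⟩ ⟨B, h2⟩
    exact ⟨_, rel0_mul h1 h2⟩
  · rintro x _ ⟨A, h1⟩
    exact ⟨_, rel0_inv h1⟩

/-- the map to `SL₂(8)` -/
noncomputable def toSL (g : ↥(commutator ↥Gr)) : SL := (rel_of_commutator g.1 g.2).choose

theorem toSL_spec (g : ↥(commutator ↥Gr)) : Semilin.Rel ((g : ↥Gr) : GL chevG2.Idx (ZMod 3)) (toSL g) 0 :=
  (rel_of_commutator g.1 g.2).choose_spec

/-- the homomorphism to `SL₂(8)` -/
noncomputable def hom : ↥(commutator ↥Gr) →* SL :=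
  MonoidHom.mk' toSL fun g h => rel_unique (toSL_spec (g * h)) (rel0_mul (toSL_spec g) (toSL_spec h))

theorem hom_bijective : Function.Bijective hom := by
  constructor
  · intro g h hgh
    have h1 := toSL_spec g
    have h2 := toSL_spec h
    have h3 : toSL g = toSL h := hgh
    rw [h3] at h1
    exact Subtype.ext (Subtype.ext (rel_inj h1 h2))
  · intro T
    obtain ⟨g, hg, h1⟩ := hit_all T
    exact ⟨⟨g, hg⟩, rel_unique (toSL_spec ⟨g, hg⟩) h1⟩

/-- `²G₂(3)' ≅ SL₂(8)` -/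
noncomputable def equivSL : ↥(commutator ↥Gr) ≃* SL := MulEquiv.ofBijective hom hom_bijective

theorem center_eq_bot : Subgroup.center SL = ⊥ := by
  rw [eq_bot_iff]
  intro g hg
  rw [Subgroup.mem_bot]
  rcases (mem_center_sl_two_iff g).1 hg with h | h
  · exact h
  · rw [h]
    apply Subtype.ext
    change -(1 : M2) = 1
    ext i j
    rfl

/-- `PSL₂(8) ≅ SL₂(8)` -/
noncomputable def pslEquiv : ProjectiveSpecialLinearGroup (Fin 2) K8 ≃* SL :=
  (QuotientGroup.quotientMulEquivOfEq center_eq_bot).trans QuotientGroup.quotientBot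

theorem card_SL : Nat.card SL = 504 := by
  rw [card_sl_two, Cfsg.Agent.ChevalleyStructure.Ree3.K8.card_K8]; norm_num

theorem main {L : Type*} [Field L] [Fintype L] (hL : Fintype.card L = 8) :
    Nat.card ↥(commutator ↥(Cfsg.Lie.twistedG2 (ZMod 3) 1)) = 504 ∧
      Nonempty (↥(commutator ↥(Cfsg.Lie.twistedG2 (ZMod 3) 1)) ≃* Matrix.ProjectiveSpecialLinearGroup (Fin 2) L) := by
  refine ⟨?_, ⟨?_⟩⟩
  · rw [Nat.card_congr equivSL.toEquiv, card_SL]
  · have e : K8 ≃+* L := FiniteField.ringEquivOfCardEq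
      (by rw [hL, Cfsg.Agent.ChevalleyStructure.Ree3.K8.card_K8])
    exact (equivSL.trans pslEquiv.symm).trans (pslCongr (Fin 2) e)

end Cfsg.Agent.ChevalleyStructure.Ree3.Final
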