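import Cfsg.Agent.ChevalleyStructure.Ree3.G2F3

/-!
Type G2 over `ZMod 3`: `wordMat w *ᵥ toVec l = toVec (run w l)`.
-/

set_option autoImplicit false

namespace Cfsg.Agent.ChevalleyStructure.Ree3.G2Run

open Matrix Cfsg.Lie Cfsg.Agent.ChevalleyStructure.Ree3.G2F3

theorem dot_cast : ∀ (n : ℕ) (row l : List ℕ), row.length = n → l.length = n →
    ((dot row l : ℕ) : ZMod 3) =
      ∑ j ∈ Finset.range n, ((row.getD j 0 : ℕ) : ZMod 3) * ((l.getD j 0 : ℕ) : ZMod 3)
  | 0, [], [], _, _ => by simp [dot]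
  | n + 1, a :: row, b :: l, hr, hl => by
    have h1 : row.length = n := by simpa using hr
    have h2 : l.length = n := by simpa using hl
    rw [Finset.sum_range_succ', dot, ZMod.natCast_mod, Nat.cast_add, Nat.cast_mul,
      dot_cast n row l h1 h2]
    simp [add_comm]

theorem tab_length : ∀ (r : Fin 12) (t : ZMod 3), (tab r t).length = 14 ∧
    ∀ k : Fin 14, ((tab r t).getD k []).length = 14 := by
  decide +kernel

theorem pos_lt (i : chevG2.Idx) : pos i < 14 := by
  rcases i with i | i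
  · have := i.isLt
    change i.val < 14
    change i.val < 2 at this
    omega
  · have := i.isLt
    change i.val + 2 < 14
    change i.val < 12 at this
    omega

theorem sum_idx (f : ℕ → ZMod 3) : ∑ j : chevG2.Idx, f (pos j) = ∑ j ∈ Finset.range 14, f j := by
  rw [Fintype.sum_sum_type]
  change (∑ j : Fin 2, f j.val) + (∑ j : Fin 12, f (j.val + 2)) = _
  rw [Fin.sum_univ_eq_sum_range (fun j => f j) 2,
    Fin.sum_univ_eq_sum_range (fun j => f (j + 2)) 12]
  rw [show (14 : ℕ) = 2 + 12 from rfl, Finset.sum_range_add]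
  simp only [add_comm]

theorem mvl_length (r : Fin 12) (t : ZMod 3) (l : List ℕ) : (mvl (tab r t) l).length = 14 := by
  simp [mvl, (tab_length r t).1]

theorem mulVec_toVec (r : Fin 12) (t : ZMod 3) (l : List ℕ) (hl : l.length = 14) :
    chevG2.xMat (ZMod 3) r t *ᵥ toVec l = toVec (mvl (tab r t) l) := by
  funext i
  have h14 := tab_length r t
  have hp := pos_lt i
  have e1 : (mvl (tab r t) l).getD (pos i) 0 = dot ((tab r t).getD (pos i) []) l := by
    simp only [mvl, List.getD_eq_getElem?_getD, List.getElem?_map]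
    rw [List.getElem?_eq_getElem (by rw [h14.1]; exact hp)]
    simp
  change ∑ j, chevG2.xMat (ZMod 3) r t i j * toVec l j = (((mvl (tab r t) l).getD (pos i) 0 : ℕ) : ZMod 3)
  rw [e1, dot_cast 14 _ _ (h14.2 ⟨pos i, hp⟩) hl, ← sum_idx]
  apply Finset.sum_congr rfl
  intro j _
  rw [xMat_apply]
  rfl

theorem x_mulVec_toVec (r : ℕ) (hr : r < 12) (t : ZMod 3) (l : List ℕ) (hl : l.length = 14) :
    chevG2.x (ZMod 3) r t *ᵥ toVec l = toVec (mvl (tab r t) l) := by
  have : chevG2.x (ZMod 3) r t = chevG2.xMat (ZMod 3) ⟨r, hr⟩ t := dif_pos hr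
  rw [this]
  exact mulVec_toVec ⟨r, hr⟩ t l hl

theorem run_length (w : List (ℕ × ZMod 3)) (hw : ∀ p ∈ w, p.1 < 12) (l : List ℕ)
    (hl : l.length = 14) : (run w l).length = 14 := by
  induction w with
  | nil => exact hl
  | cons p w ih =>
    change (mvl (tab p.1 p.2) (run w l)).length = 14
    exact mvl_length ⟨p.1, hw p (by simp)⟩ p.2 _

theorem wordMat_mulVec_toVec (w : List (ℕ × ZMod 3)) (hw : ∀ p ∈ w, p.1 < 12) (l : List ℕ)
    (hl : l.length = 14) :
    chevG2.wordMat (ZMod 3) w *ᵥ toVec l = toVec (run w l) := by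
  induction w with
  | nil =>
    change (1 : Matrix chevG2.Idx chevG2.Idx (ZMod 3)) *ᵥ toVec l = toVec l
    rw [Matrix.one_mulVec]
  | cons p w ih =>
    have h1 : chevG2.wordMat (ZMod 3) (p :: w) =
        chevG2.x (ZMod 3) p.1 p.2 * chevG2.wordMat (ZMod 3) w := by
      simp only [ChevalleyDatum.wordMat, List.map_cons, List.prod_cons]
    rw [h1, ← Matrix.mulVec_mulVec, ih (fun q hq => hw q (List.mem_cons_of_mem _ hq))]
    exact x_mulVec_toVec p.1 (hw p (by simp)) p.2 _
      (run_length w (fun q hq => hw q (List.mem_cons_of_mem _ hq)) l hl)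

end Cfsg.Agent.ChevalleyStructure.Ree3.G2Run
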