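import Cfsg.Agent.ChevalleyStructure.Ree3.Span

/-!
The generators of `²G₂(3)` as group elements, and the transvections of `SL₂(8)` as commutators.
-/

set_option autoImplicit false

namespace Cfsg.Agent.ChevalleyStructure.Ree3.Gens

open Matrix Cfsg.Lie Cfsg.Agent.ChevalleyStructure.Ree3.G2F3 Cfsg.Agent.ChevalleyStructure.Ree3.Packed
  Cfsg.Agent.ChevalleyStructure.Ree3.Check Cfsg.Agent.ChevalleyStructure.Ree3.Semilin
  Cfsg.Agent.ChevalleyStructure.Ree3.RelChk Cfsg.Agent.ChevalleyStructure.Ree3.Span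
open Cfsg.Agent.ChevalleyStructure.Ree3.K8 (K8)

/-- unit vector as a list -/
def uvec (j : ℕ) : List ℕ := (List.range 14).map fun i => if i = j then 1 else 0

theorem xinv_check : ∀ (r : Fin 12) (t : ZMod 3) (j : Fin 14),
    (runc [(r.val, t), (r.val, -t)] (uvec j) == uvec j) = true := by
  decide +kernel

theorem uvec_small : ∀ j : ℕ, Small (uvec j) := by
  intro j
  refine ⟨by simp [uvec], fun i => ?_⟩
  rw [List.getD_eq_getElem?_getD]
  simp only [uvec, List.getElem?_map]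
  rcases h : (List.range 14)[i]? with _ | a
  · simp
  · simp only [Option.map_some, Option.getD_some]
    split_ifs <;> omega

theorem toVec_uvec (j : chevG2.Idx) : toVec (uvec (pos j)) = Pi.single j 1 := by
  funext i
  have hi := Cfsg.Agent.ChevalleyStructure.Ree3.G2Run.pos_lt i
  have h1 : toVec (uvec (pos j)) i = if pos i = pos j then 1 else 0 := by
    unfold toVec
    rw [List.getD_eq_getElem?_getD]
    simp only [uvec, List.getElem?_map]
    rw [List.getElem?_range hi]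
    simp only [Option.map_some, Option.getD_some]
    split_ifs <;> simp
  rw [h1, Pi.single_apply]
  have h2 : pos i = pos j ↔ i = j := by
    rw [← posF_inj]
    constructor
    · intro h; exact Fin.ext h
    · intro h; exact congrArg Fin.val h
  simp only [h2]

theorem wordMat_inv (r : ℕ) (hr : r < 12) (t : ZMod 3) :
    chevG2.wordMat (ZMod 3) [(r, t), (r, -t)] = 1 := by
  have h : ∀ j, chevG2.wordMat (ZMod 3) [(r, t), (r, -t)] *ᵥ Pi.single j 1 = Pi.single j 1 := by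
    intro j
    have h1 := wordMat_mulVec_runc [(r, t), (r, -t)] (by simp [hr]) (uvec (pos j)) (uvec_small _)
    have h2 := eq_of_beq (xinv_check ⟨r, hr⟩ t (posF j))
    change runc [(r, t), (r, -t)] (uvec (pos j)) = uvec (pos j) at h2
    rw [h2, toVec_uvec] at h1
    exact h1
  ext i j
  have h2 := congrFun (h j) i
  rw [Matrix.mulVec_single_one] at h2
  rw [Matrix.one_apply]
  change chevG2.wordMat (ZMod 3) [(r, t), (r, -t)] i j = _ at h2
  rw [h2, Pi.single_apply]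

theorem x_isUnit (r : ℕ) (t : ZMod 3) : IsUnit (chevG2.x (ZMod 3) r t) := by
  by_cases hr : r < 12
  · have h := wordMat_inv r hr t
    simp only [ChevalleyDatum.wordMat, List.map_cons, List.map_nil, List.prod_cons, List.prod_nil,
      mul_one] at h
    exact (Matrix.isUnit_iff_isUnit_det _).2 (Matrix.isUnit_det_of_right_inverse h)
  · have : chevG2.x (ZMod 3) r t = 1 := dif_neg hr
    rw [this]
    exact isUnit_one

theorem wordMat_isUnit (w : List (ℕ × ZMod 3)) : IsUnit (chevG2.wordMat (ZMod 3) w) := by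
  induction w with
  | nil => exact isUnit_one
  | cons p w ih =>
    have h1 : chevG2.wordMat (ZMod 3) (p :: w) =
        chevG2.x (ZMod 3) p.1 p.2 * chevG2.wordMat (ZMod 3) w := by
      simp only [ChevalleyDatum.wordMat, List.map_cons, List.prod_cons]
    rw [h1]
    exact (x_isUnit p.1 p.2).mul ih

/-- the group element of a word -/
noncomputable def gw (w : List (ℕ × ZMod 3)) : GL chevG2.Idx (ZMod 3) := (wordMat_isUnit w).unit

theorem gw_coe (w : List (ℕ × ZMod 3)) :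
    ((gw w : GL chevG2.Idx (ZMod 3)) : Matrix chevG2.Idx chevG2.Idx (ZMod 3)) =
      chevG2.wordMat (ZMod 3) w := (wordMat_isUnit w).unit_spec

/-- explicit elements of `SL₂(8)` -/
def slq (e : ℕ × ℕ × ℕ × ℕ × ℕ) : SL :=
  if h : Cfsg.Agent.ChevalleyStructure.Ree3.K8.mk e.1 * Cfsg.Agent.ChevalleyStructure.Ree3.K8.mk e.2.2.2.1 -
      Cfsg.Agent.ChevalleyStructure.Ree3.K8.mk e.2.1 * Cfsg.Agent.ChevalleyStructure.Ree3.K8.mk e.2.2.1 = 1
  then ⟨!![Cfsg.Agent.ChevalleyStructure.Ree3.K8.mk e.1, Cfsg.Agent.ChevalleyStructure.Ree3.K8.mk e.2.1;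
      Cfsg.Agent.ChevalleyStructure.Ree3.K8.mk e.2.2.1, Cfsg.Agent.ChevalleyStructure.Ree3.K8.mk e.2.2.2.1],
      by rw [Matrix.det_fin_two_of]; exact h⟩
  else 1

/-- data of the positive word -/
def dU (t u v : ZMod 3) : ℕ × ℕ × ℕ × ℕ × ℕ :=
  dataU.getD (9 * t.val + 3 * u.val + v.val) (0, 0, 0, 0, 0)

/-- data of the negative word -/
def dV (t u v : ZMod 3) : ℕ × ℕ × ℕ × ℕ × ℕ :=
  dataV.getD (9 * t.val + 3 * u.val + v.val) (0, 0, 0, 0, 0)

/-- the determinant condition -/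
def detOK (e : ℕ × ℕ × ℕ × ℕ × ℕ) : Prop :=
  Cfsg.Agent.ChevalleyStructure.Ree3.K8.mk e.1 * Cfsg.Agent.ChevalleyStructure.Ree3.K8.mk e.2.2.2.1 -
      Cfsg.Agent.ChevalleyStructure.Ree3.K8.mk e.2.1 * Cfsg.Agent.ChevalleyStructure.Ree3.K8.mk e.2.2.1 = 1

instance detOK_dec (e : ℕ × ℕ × ℕ × ℕ × ℕ) : Decidable (detOK e) := by
  unfold detOK; infer_instance

theorem slq_eq (e : ℕ × ℕ × ℕ × ℕ × ℕ) (h : detOK e) : toM (slq e) =
    !![Cfsg.Agent.ChevalleyStructure.Ree3.K8.mk e.1, Cfsg.Agent.ChevalleyStructure.Ree3.K8.mk e.2.1;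
      Cfsg.Agent.ChevalleyStructure.Ree3.K8.mk e.2.2.1, Cfsg.Agent.ChevalleyStructure.Ree3.K8.mk e.2.2.2.1] := by
  have : slq e = ⟨!![Cfsg.Agent.ChevalleyStructure.Ree3.K8.mk e.1, Cfsg.Agent.ChevalleyStructure.Ree3.K8.mk e.2.1;
      Cfsg.Agent.ChevalleyStructure.Ree3.K8.mk e.2.2.1, Cfsg.Agent.ChevalleyStructure.Ree3.K8.mk e.2.2.2.1],
      by rw [Matrix.det_fin_two_of]; exact h⟩ := dif_pos h
  rw [this]; rfl

theorem detU : ∀ t u v : ZMod 3, detOK (dU t u v) := by decide +kernel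

theorem detV : ∀ t u v : ZMod 3, detOK (dV t u v) := by decide +kernel

theorem ltU : ∀ t u v : ZMod 3, ∀ p ∈ reeWordU 1 t u v, p.1 < 12 := by decide +kernel

theorem ltV : ∀ t u v : ZMod 3, ∀ p ∈ reeWordV 1 t u v, p.1 < 12 := by decide +kernel

theorem relU (t u v : ZMod 3) (g : GL chevG2.Idx (ZMod 3))
    (hg : (g : Matrix chevG2.Idx chevG2.Idx (ZMod 3)) = chevG2.wordMat (ZMod 3) (reeWordU 1 t u v)) :
    Semilin.Rel g (slq (dU t u v)) ((dU t u v).2.2.2.2 : ℕ) := by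
  have h := slq_eq _ (detU t u v)
  exact rel_of_chk _ (ltU t u v) (slq (dU t u v)) _ (dU t u v).1 (dU t u v).2.1 (dU t u v).2.2.1
    (dU t u v).2.2.2.1 (by rw [h]; rfl) (by rw [h]; rfl) (by rw [h]; rfl) (by rw [h]; rfl)
    (chkU t u v) g hg

theorem relV (t u v : ZMod 3) (g : GL chevG2.Idx (ZMod 3))
    (hg : (g : Matrix chevG2.Idx chevG2.Idx (ZMod 3)) = chevG2.wordMat (ZMod 3) (reeWordV 1 t u v)) :
    Semilin.Rel g (slq (dV t u v)) ((dV t u v).2.2.2.2 : ℕ) := by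
  have h := slq_eq _ (detV t u v)
  exact rel_of_chk _ (ltV t u v) (slq (dV t u v)) _ (dV t u v).1 (dV t u v).2.1 (dV t u v).2.2.1
    (dV t u v).2.2.2.1 (by rw [h]; rfl) (by rw [h]; rfl) (by rw [h]; rfl) (by rw [h]; rfl)
    (chkV t u v) g hg

/-- the group `²G₂(3)` -/
abbrev Gr : Subgroup (GL chevG2.Idx (ZMod 3)) := twistedG2 (ZMod 3) 1

/-- generators as elements of `²G₂(3)` -/
noncomputable def eU (t u v : ZMod 3) : ↥Gr :=
  ⟨gw (reeWordU 1 t u v), Subgroup.subset_closure ⟨reeWordU 1 t u v, ⟨t, u, v, Or.inl rfl⟩, gw_coe _⟩⟩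

/-- generators as elements of `²G₂(3)` -/
noncomputable def eV (t u v : ZMod 3) : ↥Gr :=
  ⟨gw (reeWordV 1 t u v), Subgroup.subset_closure ⟨reeWordV 1 t u v, ⟨t, u, v, Or.inr rfl⟩, gw_coe _⟩⟩

theorem rel_eU (t u v : ZMod 3) :
    Semilin.Rel (eU t u v : GL chevG2.Idx (ZMod 3)) (slq (dU t u v)) ((dU t u v).2.2.2.2 : ℕ) :=
  relU t u v _ (gw_coe _)

theorem rel_eV (t u v : ZMod 3) :
    Semilin.Rel (eV t u v : GL chevG2.Idx (ZMod 3)) (slq (dV t u v)) ((dV t u v).2.2.2.2 : ℕ) :=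
  relV t u v _ (gw_coe _)

theorem rel_of_mem (g : GL chevG2.Idx (ZMod 3)) (hg : g ∈ Gr) : ∃ (A : SL) (n : ℤ), Semilin.Rel g A n := by
  refine Subgroup.closure_induction (p := fun g _ => ∃ (A : SL) (n : ℤ), Semilin.Rel g A n) ?_ ?_ ?_ ?_ hg
  · rintro g ⟨w, ⟨t, u, v, hw⟩, hgw⟩
    rcases hw with rfl | rfl
    · exact ⟨_, _, relU t u v g hgw⟩
    · exact ⟨_, _, relV t u v g hgw⟩
  · exact ⟨1, 0, Semilin.Rel.one⟩
  · rintro x y _ _ ⟨A, n, h1⟩ ⟨B, m, h2⟩
    exact ⟨_, _, h1.mul h2⟩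
  · rintro x _ ⟨A, n, h1⟩
    exact ⟨_, _, h1.inv⟩

theorem rel_zero_iff (g : GL chevG2.Idx (ZMod 3)) (A : SL) : Semilin.Rel g A 0 ↔ (g, conjPerm A) ∈ Gam := by
  unfold Semilin.Rel
  rw [zpow_zero, map_one, mul_one]

theorem rel0_mul {g h : GL chevG2.Idx (ZMod 3)} {A B : SL} (h1 : Semilin.Rel g A 0)
    (h2 : Semilin.Rel h B 0) : Semilin.Rel (g * h) (A * B) 0 := by
  have h3 := Gam.mul_mem ((rel_zero_iff g A).1 h1) ((rel_zero_iff h B).1 h2)
  refine (rel_zero_iff (g * h) (A * B)).2 ?_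
  rw [map_mul]
  exact h3

theorem rel0_inv {g : GL chevG2.Idx (ZMod 3)} {A : SL} (h1 : Semilin.Rel g A 0) :
    Semilin.Rel g⁻¹ A⁻¹ 0 := by
  have h3 := Gam.inv_mem ((rel_zero_iff g A).1 h1)
  refine (rel_zero_iff g⁻¹ A⁻¹).2 ?_
  rw [map_inv]
  exact h3

theorem rel_unique {g : GL chevG2.Idx (ZMod 3)} {A B : SL} (h1 : Semilin.Rel g A 0) (h2 : Semilin.Rel g B 0) :
    A = B := by
  have h3 := rel0_mul (rel0_inv h1) h2
  rw [inv_mul_cancel, rel_zero_iff] at h3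
  have h4 : A⁻¹ * B = 1 := by
    apply eq_one_of_conj
    intro M hM
    have h5 := h3 M
    change (1 : Matrix chevG2.Idx chevG2.Idx (ZMod 3)) *ᵥ Semilin.vec M = Semilin.vec (conjPerm (A⁻¹ * B) M) at h5
    rw [Matrix.one_mulVec] at h5
    exact (vec_inj hM ((Om_conj _ _).2 hM) h5).symm
  exact inv_mul_eq_one.1 h4

theorem rel_inj {g h : GL chevG2.Idx (ZMod 3)} {A : SL} (h1 : Semilin.Rel g A 0) (h2 : Semilin.Rel h A 0) :
    g = h := by
  have h3 := rel0_mul (rel0_inv h1) h2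
  rw [inv_mul_cancel, rel_zero_iff, map_one] at h3
  have h4 : g⁻¹ * h = 1 := by
    apply Units.ext
    apply eq_one_of_fix
    intro M _
    exact h3 M
  exact inv_mul_eq_one.1 h4

theorem rel_comm {x y : GL chevG2.Idx (ZMod 3)} {A B T : SL} {n m : ℤ} (h1 : Semilin.Rel x A n)
    (h2 : Semilin.Rel y B m) (h : A * slMap (frob ^ n) B = T * (B * slMap (frob ^ m) A)) :
    Semilin.Rel (x * y * x⁻¹ * y⁻¹) T 0 := by
  have h3 := h1.mul h2
  have h4 := Gam.inv_mem (h2.mul h1)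
  have h5 := Gam.mul_mem h3 h4
  rw [rel_zero_iff]
  have e1 : (conjPerm (A * slMap (frob ^ n) B) * mapPerm (frob ^ (n + m))) *
      (conjPerm (B * slMap (frob ^ m) A) * mapPerm (frob ^ (m + n)))⁻¹ = conjPerm T := by
    rw [h, map_mul, add_comm m n]
    group
  have e2 : x * y * x⁻¹ * y⁻¹ = (x * y) * (y * x)⁻¹ := by group
  rw [e2, ← e1]
  exact h5

end Cfsg.Agent.ChevalleyStructure.Ree3.Gens
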