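import Mathlib
import Cfsg.Agent.LieClassical.SmallIso

/-!
A concrete field with eight elements `K8` (elements `0..7`, bit `i` = coefficient of `a^i`,
`a^3 = a + 1`), with kernel-computable operations.
-/

set_option autoImplicit false
set_option linter.dupNamespace false

namespace Cfsg.Agent.ChevalleyStructure.Ree3.K8

/-- multiplication table of the field with eight elements, rows of `8` octal digits -/
def mulTab (a b : ℕ) : ℕ :=
  match a with
  | 0 => 0
  | 1 => b
  | 2 => match b with | 0 => 0 | 1 => 2 | 2 => 4 | 3 => 6 | 4 => 3 | 5 => 1 | 6 => 7 | _ => 5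
  | 3 => match b with | 0 => 0 | 1 => 3 | 2 => 6 | 3 => 5 | 4 => 7 | 5 => 4 | 6 => 1 | _ => 2
  | 4 => match b with | 0 => 0 | 1 => 4 | 2 => 3 | 3 => 7 | 4 => 6 | 5 => 2 | 6 => 5 | _ => 1
  | 5 => match b with | 0 => 0 | 1 => 5 | 2 => 1 | 3 => 4 | 4 => 2 | 5 => 7 | 6 => 3 | _ => 6
  | 6 => match b with | 0 => 0 | 1 => 6 | 2 => 7 | 3 => 1 | 4 => 5 | 5 => 3 | 6 => 2 | _ => 4
  | _ => match b with | 0 => 0 | 1 => 7 | 2 => 5 | 3 => 2 | 4 => 1 | 5 => 6 | 6 => 4 | _ => 3

/-- inverse table -/
def invTab (a : ℕ) : ℕ :=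
  match a with
  | 0 => 0 | 1 => 1 | 2 => 5 | 3 => 6 | 4 => 7 | 5 => 2 | 6 => 3 | _ => 4

/-- A concrete field with eight elements. -/
structure K8 where
  /-- code in `0..7` -/
  v : Fin 8
  deriving DecidableEq

/-- encode a natural number (mod 8) -/
def mk (n : ℕ) : K8 := ⟨⟨n % 8, Nat.mod_lt _ (by decide)⟩⟩

/-- `K8 ≃ Fin 8` -/
def equivFin : K8 ≃ Fin 8 where
  toFun x := x.v
  invFun x := ⟨x⟩
  left_inv _ := rfl
  right_inv _ := rfl

instance instFintypeK8 : Fintype K8 := Fintype.ofEquiv _ equivFin.symm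

theorem card_K8 : Fintype.card K8 = 8 := by
  rw [Fintype.card_congr equivFin, Fintype.card_fin]

instance instZeroK8 : Zero K8 := ⟨mk 0⟩
instance instOneK8 : One K8 := ⟨mk 1⟩
instance instAddK8 : Add K8 := ⟨fun x y => mk (Nat.xor x.v.val y.v.val)⟩
instance instMulK8 : Mul K8 := ⟨fun x y => mk (mulTab x.v.val y.v.val)⟩
instance instNegK8 : Neg K8 := ⟨fun x => x⟩
instance instInvK8 : Inv K8 := ⟨fun x => mk (invTab x.v.val)⟩

theorem forall_iff {p : K8 → Prop} : (∀ x, p x) ↔ ∀ x : Fin 8, p ⟨x⟩ :=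
  ⟨fun h x => h ⟨x⟩, fun h x => h x.v⟩

theorem add_assoc' : ∀ x y z : K8, x + y + z = x + (y + z) := by
  simp only [forall_iff]; decide +kernel

theorem mul_assoc' : ∀ x y z : K8, x * y * z = x * (y * z) := by
  simp only [forall_iff]; decide +kernel

theorem mul_add' : ∀ x y z : K8, x * (y + z) = x * y + x * z := by
  simp only [forall_iff]; decide +kernel

theorem add_comm' : ∀ x y : K8, x + y = y + x := by
  simp only [forall_iff]; decide +kernel

theorem mul_comm' : ∀ x y : K8, x * y = y * x := by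
  simp only [forall_iff]; decide +kernel

theorem zero_add' : ∀ x : K8, 0 + x = x := by
  simp only [forall_iff]; decide +kernel

theorem one_mul' : ∀ x : K8, 1 * x = x := by
  simp only [forall_iff]; decide +kernel

theorem neg_add' : ∀ x : K8, -x + x = 0 := by
  simp only [forall_iff]; decide +kernel

theorem zero_mul' : ∀ x : K8, 0 * x = 0 := by
  simp only [forall_iff]; decide +kernel

theorem mul_inv' : ∀ x : K8, x ≠ 0 → x * x⁻¹ = 1 := by
  simp only [forall_iff]; decide +kernel

instance instFieldK8 : Field K8 where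
  add_assoc := add_assoc'
  zero_add := zero_add'
  add_zero x := by rw [add_comm', zero_add']
  add_comm := add_comm'
  neg_add_cancel := neg_add'
  mul_assoc := mul_assoc'
  one_mul := one_mul'
  mul_one x := by rw [mul_comm', one_mul']
  left_distrib := mul_add'
  right_distrib x y z := by rw [mul_comm', mul_add', mul_comm' z x, mul_comm' z y]
  zero_mul := zero_mul'
  mul_zero x := by rw [mul_comm', zero_mul']
  mul_comm := mul_comm'
  exists_pair_ne := ⟨0, 1, by decide +kernel⟩
  mul_inv_cancel := mul_inv'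
  inv_zero := by decide +kernel
  nsmul := nsmulRec
  zsmul := zsmulRec
  nnqsmul := _
  nnqsmul_def := fun _ _ => rfl
  qsmul := _
  qsmul_def := fun _ _ => rfl

theorem add_self' : ∀ x : K8, x + x = 0 := by
  simp only [forall_iff]; decide +kernel

theorem neg_eq' (x : K8) : -x = x := rfl

instance instCharP : CharP K8 2 := by
  refine CharTwo.of_one_ne_zero_of_two_eq_zero one_ne_zero ?_
  rw [← one_add_one_eq_two]
  exact add_self' 1

end Cfsg.Agent.ChevalleyStructure.Ree3.K8
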