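import Cfsg.Agent.ChevalleyStructure.Ree3.Semilin

/-!
From the kernel check of the generating words to the semilinear relation.
-/

set_option autoImplicit false

namespace Cfsg.Agent.ChevalleyStructure.Ree3.RelChk

open Matrix Cfsg.Lie Cfsg.Agent.ChevalleyStructure.Ree3.G2F3 Cfsg.Agent.ChevalleyStructure.Ree3.Packed
  Cfsg.Agent.ChevalleyStructure.Ree3.Check Cfsg.Agent.ChevalleyStructure.Ree3.Semilin
open Cfsg.Agent.ChevalleyStructure.Ree3.K8 (K8)

theorem frob_apply (x : K8) : frob x = x * x := rfl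

theorem frob_pow_apply (n : ℕ) (x : K8) : (frob ^ (n : ℤ)) x = fr n x := by
  induction n generalizing x with
  | zero => rfl
  | succ n ih =>
    rw [Nat.cast_succ, _root_.zpow_add, zpow_one, RingAut.mul_apply, ih]
    rfl

/-- the condition `trace = det = 1` -/
def Om (M : M2) : Prop := M.trace = 1 ∧ M.det = 1

theorem vec_of_Om {M : M2} (h : Om M) : Semilin.vec M = toVec (look vtab (key (M 0 0) (M 0 1) (M 1 0))) :=
  if_pos h

theorem vec_of_not_Om {M : M2} (h : ¬ Om M) : Semilin.vec M = 0 := if_neg h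

theorem Om_map (f : K8 ≃+* K8) (M : M2) : Om (mapPerm f M) ↔ Om M := by
  rw [mapPerm_apply]
  have h1 : (M.map f).trace = f M.trace := by
    rw [Matrix.trace_fin_two, Matrix.trace_fin_two]; simp
  have h2 : (M.map f).det = f M.det := by
    rw [Matrix.det_fin_two, Matrix.det_fin_two]; simp
  rw [Om, Om, h1, h2]
  constructor
  · rintro ⟨h3, h4⟩
    exact ⟨by simpa using h3, by simpa using h4⟩
  · rintro ⟨h3, h4⟩
    exact ⟨by simpa using h3, by simpa using h4⟩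

theorem Om_conj (A : SL) (M : M2) : Om (conjPerm A M) ↔ Om M := by
  rw [conjPerm_apply]
  have h1 : (toM A * M * toM A⁻¹).trace = M.trace := by
    rw [Matrix.trace_mul_comm, ← Matrix.mul_assoc, toM_inv_mul, Matrix.one_mul]
  have h2 : (toM A * M * toM A⁻¹).det = M.det := by
    rw [Matrix.det_mul, Matrix.det_mul]
    have h3 : (toM A).det = 1 := A.2
    have h4 : (toM A⁻¹).det = 1 := (A⁻¹).2
    rw [h3, h4, one_mul, mul_one]
  rw [Om, Om, h1, h2]

theorem Om_act (A : SL) (f : K8 ≃+* K8) (M : M2) : Om ((conjPerm A * mapPerm f) M) ↔ Om M := by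
  rw [Equiv.Perm.mul_apply, Om_conj, Om_map]

theorem Om_eq {M : M2} (h : Om M) : M 1 1 = M 0 0 + 1 ∧ M 0 0 * (M 0 0 + 1) + M 0 1 * M 1 0 = 1 := by
  obtain ⟨h1, h2⟩ := h
  rw [Matrix.trace_fin_two] at h1
  rw [Matrix.det_fin_two] at h2
  have h3 : M 1 1 = M 0 0 + 1 := by
    have := CharTwo.add_self_eq_zero (M 0 0)
    linear_combination h1 - this
  refine ⟨h3, ?_⟩
  rw [h3] at h2
  have := CharTwo.add_self_eq_zero (M 0 1 * M 1 0)
  linear_combination h2 + this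

theorem key_facts : ∀ x y z : Fin 8,
    ((⟨x⟩ : K8) * (⟨x⟩ + 1) + ⟨y⟩ * ⟨z⟩ = 1) →
      (vtab.any fun e => Nat.beq e.1 (key ⟨x⟩ ⟨y⟩ ⟨z⟩) && (e.2 == look vtab e.1)) = true := by
  decide +kernel

theorem key_small : (vtab.all fun e => Nat.beq e.2.length 14 && e.2.all fun d => decide (d < 3)) = true := by
  decide +kernel

theorem key_div : ∀ x y z : Fin 8,
    Cfsg.Agent.ChevalleyStructure.Ree3.K8.mk (key ⟨x⟩ ⟨y⟩ ⟨z⟩ / 64) = ⟨x⟩ ∧
    Cfsg.Agent.ChevalleyStructure.Ree3.K8.mk (key ⟨x⟩ ⟨y⟩ ⟨z⟩ / 8) = ⟨y⟩ ∧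
    Cfsg.Agent.ChevalleyStructure.Ree3.K8.mk (key ⟨x⟩ ⟨y⟩ ⟨z⟩) = ⟨z⟩ := by
  decide +kernel

theorem mem_vtab (x y z : K8) (h : x * (x + 1) + y * z = 1) :
    (key x y z, look vtab (key x y z)) ∈ vtab := by
  have h1 := key_facts x.v y.v z.v h
  rw [List.any_eq_true] at h1
  obtain ⟨e, he, h2⟩ := h1
  rw [Bool.and_eq_true] at h2
  obtain ⟨h3, h4⟩ := h2
  have h5 : e.1 = key x y z := Nat.eq_of_beq_eq_true h3
  have h6 : e.2 = look vtab e.1 := by simpa using h4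
  rw [h5] at h6
  have h7 : e = (key x y z, look vtab (key x y z)) := Prod.ext h5 h6
  rw [← h7]
  exact he

theorem small_look (x y z : K8) (h : x * (x + 1) + y * z = 1) :
    Small (look vtab (key x y z)) := by
  have h1 := List.all_eq_true.1 key_small _ (mem_vtab x y z h)
  rw [Bool.and_eq_true] at h1
  obtain ⟨h2, h3⟩ := h1
  have h4 : (look vtab (key x y z)).length = 14 := Nat.eq_of_beq_eq_true h2
  refine ⟨h4, fun j => ?_⟩
  rw [List.getD_eq_getElem?_getD]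
  rcases hj : (look vtab (key x y z))[j]? with _ | a
  · simp
  · simp only [Option.getD_some]
    have := List.all_eq_true.1 h3 a (List.mem_of_getElem? hj)
    simpa using this

theorem act_entries (A : SL) (n : ℕ) (M : M2) (h : Om M) :
    ((conjPerm A * mapPerm (frob ^ (n : ℤ))) M 0 0, (conjPerm A * mapPerm (frob ^ (n : ℤ))) M 0 1,
      (conjPerm A * mapPerm (frob ^ (n : ℤ))) M 1 0) =
    act3 (toM A 0 0) (toM A 0 1) (toM A 1 0) (toM A 1 1) n (M 0 0) (M 0 1) (M 1 0) := by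
  obtain ⟨h1, h2⟩ := Om_eq h
  have hinv : toM A⁻¹ = !![toM A 1 1, toM A 0 1; toM A 1 0, toM A 0 0] := by
    have : toM A⁻¹ = (toM A).adjugate := rfl
    rw [this, Matrix.adjugate_fin_two]
    rfl
  have hf1 : ∀ x : K8, fr n (x + 1) = fr n x + 1 := by
    intro x
    rw [← frob_pow_apply, ← frob_pow_apply, map_add, map_one]
  rw [Equiv.Perm.mul_apply, conjPerm_apply, mapPerm_apply, hinv]
  simp only [act3, Matrix.mul_apply, Fin.sum_univ_two, Matrix.map_apply, frob_pow_apply, h1, hf1]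
  simp

theorem rel_of_chk (w : List (ℕ × ZMod 3)) (hw : ∀ p ∈ w, p.1 < 12) (A : SL) (n : ℕ)
    (a b c d : ℕ) (ha : toM A 0 0 = Cfsg.Agent.ChevalleyStructure.Ree3.K8.mk a)
    (hb : toM A 0 1 = Cfsg.Agent.ChevalleyStructure.Ree3.K8.mk b)
    (hc : toM A 1 0 = Cfsg.Agent.ChevalleyStructure.Ree3.K8.mk c)
    (hd : toM A 1 1 = Cfsg.Agent.ChevalleyStructure.Ree3.K8.mk d)
    (h : chk w (a, b, c, d, n) = true) (g : GL chevG2.Idx (ZMod 3))
    (hg : (g : Matrix chevG2.Idx chevG2.Idx (ZMod 3)) = chevG2.wordMat (ZMod 3) w) :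
    Rel g A n := by
  intro M
  change (g : Matrix chevG2.Idx chevG2.Idx (ZMod 3)) *ᵥ Semilin.vec M = Semilin.vec ((conjPerm A * mapPerm (frob ^ (n : ℤ))) M)
  by_cases hM : Om M
  · rw [vec_of_Om hM, vec_of_Om ((Om_act A _ M).2 hM), hg]
    obtain ⟨h1, h2⟩ := Om_eq hM
    rw [wordMat_mulVec_runc w hw _ (small_look _ _ _ h2)]
    have h3 := List.all_eq_true.1 h _ (mem_vtab _ _ _ h2)
    have h4 := key_div (M 0 0).v (M 0 1).v (M 1 0).v
    have h5 := act_entries A n M hM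
    simp only at h3
    rw [show Cfsg.Agent.ChevalleyStructure.Ree3.K8.mk (key (M 0 0) (M 0 1) (M 1 0) / 64) = M 0 0 from h4.1,
      show Cfsg.Agent.ChevalleyStructure.Ree3.K8.mk (key (M 0 0) (M 0 1) (M 1 0) / 8) = M 0 1 from h4.2.1,
      show Cfsg.Agent.ChevalleyStructure.Ree3.K8.mk (key (M 0 0) (M 0 1) (M 1 0)) = M 1 0 from h4.2.2,
      ← ha, ← hb, ← hc, ← hd, ← h5] at h3
    have h6 := eq_of_beq h3
    rw [h6]
  · rw [vec_of_not_Om hM, vec_of_not_Om (fun h' => hM ((Om_act A _ M).1 h')), Matrix.mulVec_zero]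

end Cfsg.Agent.ChevalleyStructure.Ree3.RelChk
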