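import Cfsg.Agent.ChevalleyStructure.Ree3.Check

/-!
Semilinear conjugation on 2×2 matrices over `K8` and its relation with vectors over `ZMod 3`.
-/

set_option autoImplicit false

namespace Cfsg.Agent.ChevalleyStructure.Ree3.Semilin

open Matrix Cfsg.Lie Cfsg.Agent.ChevalleyStructure.Ree3.G2F3 Cfsg.Agent.ChevalleyStructure.Ree3.Packed
  Cfsg.Agent.ChevalleyStructure.Ree3.Check
open Cfsg.Agent.ChevalleyStructure.Ree3.K8 (K8)

/-- two by two matrices -/
abbrev M2 : Type := Matrix (Fin 2) (Fin 2) K8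

/-- the group `SL₂(8)` -/
abbrev SL : Type := SpecialLinearGroup (Fin 2) K8

theorem frob_add : ∀ x y : K8, (x + y) * (x + y) = x * x + y * y := by
  simp only [Cfsg.Agent.ChevalleyStructure.Ree3.K8.forall_iff]; decide +kernel

theorem frob_left : ∀ x : K8, (x * x) * (x * x) * ((x * x) * (x * x)) = x := by
  simp only [Cfsg.Agent.ChevalleyStructure.Ree3.K8.forall_iff]; decide +kernel

/-- the Frobenius automorphism of `K8` -/
def frob : K8 ≃+* K8 where
  toFun x := x * x
  invFun x := (x * x) * (x * x)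
  left_inv x := frob_left x
  right_inv x := frob_left x
  map_add' := frob_add
  map_mul' x y := by ring

/-- a field automorphism acting on matrices -/
def mapPerm : (K8 ≃+* K8) →* Equiv.Perm M2 where
  toFun f :=
    { toFun := fun M => M.map f
      invFun := fun M => M.map f.symm
      left_inv := fun M => by ext i j; simp
      right_inv := fun M => by ext i j; simp }
  map_one' := by ext M i j; rfl
  map_mul' f g := by ext M i j; rfl

/-- the underlying matrix -/
def toM (A : SL) : M2 := A.1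

theorem toM_mul (A B : SL) : toM (A * B) = toM A * toM B := rfl

theorem toM_one : toM 1 = 1 := rfl

theorem toM_mul_inv (A : SL) : toM A * toM A⁻¹ = 1 := by
  rw [← toM_mul, mul_inv_cancel, toM_one]

theorem toM_inv_mul (A : SL) : toM A⁻¹ * toM A = 1 := by
  rw [← toM_mul, inv_mul_cancel, toM_one]

/-- conjugation -/
def conjPerm : SL →* Equiv.Perm M2 where
  toFun A :=
    { toFun := fun M => toM A * M * toM A⁻¹
      invFun := fun M => toM A⁻¹ * M * toM A
      left_inv := fun M => by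
        calc toM A⁻¹ * (toM A * M * toM A⁻¹) * toM A
            = (toM A⁻¹ * toM A) * M * (toM A⁻¹ * toM A) := by
              simp only [Matrix.mul_assoc]
          _ = M := by rw [toM_inv_mul, Matrix.one_mul, Matrix.mul_one]
      right_inv := fun M => by
        calc toM A * (toM A⁻¹ * M * toM A) * toM A⁻¹
            = (toM A * toM A⁻¹) * M * (toM A * toM A⁻¹) := by
              simp only [Matrix.mul_assoc]
          _ = M := by rw [toM_mul_inv, Matrix.one_mul, Matrix.mul_one] }
  map_one' := by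
    apply Equiv.ext
    intro M
    change toM 1 * M * toM 1⁻¹ = M
    rw [inv_one, toM_one, Matrix.one_mul, Matrix.mul_one]
  map_mul' A B := by
    apply Equiv.ext
    intro M
    change toM (A * B) * M * toM (A * B)⁻¹ = toM A * (toM B * M * toM B⁻¹) * toM A⁻¹
    rw [_root_.mul_inv_rev, toM_mul, toM_mul]
    simp only [Matrix.mul_assoc]

theorem conjPerm_apply (A : SL) (M : M2) : conjPerm A M = toM A * M * toM A⁻¹ := rfl

theorem mapPerm_apply (f : K8 ≃+* K8) (M : M2) : mapPerm f M = M.map f := rfl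

/-- a field automorphism acting on `SL₂` -/
def slMap (f : K8 ≃+* K8) : SL →* SL := SpecialLinearGroup.map (f : K8 →+* K8)

theorem slMap_coe (f : K8 ≃+* K8) (A : SL) : toM (slMap f A) = (toM A).map f := rfl

theorem mapPerm_conjPerm (f : K8 ≃+* K8) (A : SL) :
    mapPerm f * conjPerm A = conjPerm (slMap f A) * mapPerm f := by
  apply Equiv.ext
  intro M
  change (toM A * M * toM A⁻¹).map f = toM (slMap f A) * (M.map f) * toM (slMap f A)⁻¹
  rw [← map_inv, slMap_coe, slMap_coe, Matrix.map_mul, Matrix.map_mul]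

/-- the vector attached to a matrix of trace one and determinant one -/
def vec (M : M2) : chevG2.Idx → ZMod 3 :=
  if M.trace = 1 ∧ M.det = 1 then toVec (look vtab (key (M 0 0) (M 0 1) (M 1 0))) else 0

/-- pairs acting compatibly on matrices and vectors -/
def Gam : Subgroup (GL chevG2.Idx (ZMod 3) × Equiv.Perm M2) where
  carrier := {p | ∀ M : M2, (p.1 : Matrix chevG2.Idx chevG2.Idx (ZMod 3)) *ᵥ vec M = vec (p.2 M)}
  mul_mem' := by
    intro p q hp hq M
    change ((p.1 * q.1 : GL chevG2.Idx (ZMod 3)) : Matrix chevG2.Idx chevG2.Idx (ZMod 3)) *ᵥ vec M = vec (p.2 (q.2 M))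
    rw [Units.val_mul, ← Matrix.mulVec_mulVec, hq M, hp]
  one_mem' := by
    intro M
    change (1 : Matrix chevG2.Idx chevG2.Idx (ZMod 3)) *ᵥ vec M = vec M
    rw [Matrix.one_mulVec]
  inv_mem' := by
    intro p hp M
    change ((p.1⁻¹ : GL chevG2.Idx (ZMod 3)) : Matrix chevG2.Idx chevG2.Idx (ZMod 3)) *ᵥ vec M = vec (p.2⁻¹ M)
    have h := hp (p.2⁻¹ M)
    have e : p.2 (p.2⁻¹ M) = M := Equiv.apply_symm_apply p.2 M
    rw [e] at h
    rw [← h, Matrix.mulVec_mulVec, ← Units.val_mul, inv_mul_cancel, Units.val_one, Matrix.one_mulVec]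

theorem mem_Gam {g : GL chevG2.Idx (ZMod 3)} {π : Equiv.Perm M2} : (g, π) ∈ Gam ↔
    ∀ M : M2, (g : Matrix chevG2.Idx chevG2.Idx (ZMod 3)) *ᵥ vec M = vec (π M) := Iff.rfl

/-- the semilinear relation -/
def Rel (g : GL chevG2.Idx (ZMod 3)) (A : SL) (n : ℤ) : Prop :=
  (g, conjPerm A * mapPerm (frob ^ n)) ∈ Gam

theorem Rel.mul {g h : GL chevG2.Idx (ZMod 3)} {A B : SL} {n m : ℤ} (h1 : Rel g A n)
    (h2 : Rel h B m) : Rel (g * h) (A * slMap (frob ^ n) B) (n + m) := by
  have h3 := Gam.mul_mem h1 h2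
  have e : (conjPerm A * mapPerm (frob ^ n)) * (conjPerm B * mapPerm (frob ^ m)) =
      conjPerm (A * slMap (frob ^ n) B) * mapPerm (frob ^ (n + m)) := by
    rw [map_mul, _root_.zpow_add, map_mul mapPerm]
    rw [mul_assoc (conjPerm A), ← mul_assoc (mapPerm (frob ^ n)), mapPerm_conjPerm]
    simp only [mul_assoc]
  unfold Rel
  rw [← e]
  exact h3

theorem Rel.inv {g : GL chevG2.Idx (ZMod 3)} {A : SL} {n : ℤ} (h1 : Rel g A n) :
    Rel g⁻¹ (slMap (frob ^ (-n)) A⁻¹) (-n) := by
  have h3 := Gam.inv_mem h1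
  have e : (conjPerm A * mapPerm (frob ^ n))⁻¹ =
      conjPerm (slMap (frob ^ (-n)) A⁻¹) * mapPerm (frob ^ (-n)) := by
    rw [← mapPerm_conjPerm, _root_.mul_inv_rev, map_inv, _root_.zpow_neg, map_inv]
  unfold Rel
  rw [← e]
  exact h3

theorem Rel.one : Rel 1 1 0 := by
  unfold Rel
  rw [map_one, zpow_zero, map_one, one_mul]
  exact Gam.one_mem

/-- the `SL₂` part of a commutator -/
def commA (A B : SL) (n m : ℤ) : SL :=
  A * slMap (frob ^ n) B * slMap (frob ^ (n + m)) (slMap (frob ^ (-n)) A⁻¹) *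
    slMap (frob ^ (n + m + -n)) (slMap (frob ^ (-m)) B⁻¹)

theorem Rel.comm {g h : GL chevG2.Idx (ZMod 3)} {A B : SL} {n m : ℤ} (h1 : Rel g A n)
    (h2 : Rel h B m) : Rel (g * h * g⁻¹ * h⁻¹) (commA A B n m) 0 := by
  have h3 := ((h1.mul h2).mul h1.inv).mul h2.inv
  have e : n + m + -n + -m = 0 := by ring
  rw [e] at h3
  exact h3

end Cfsg.Agent.ChevalleyStructure.Ree3.Semilin
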