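import Cfsg.Agent.ChevalleyStructure.Ree3.RelChk

/-!
The labelled vectors are distinct and span; uniqueness of the label action.
-/

set_option autoImplicit false

namespace Cfsg.Agent.ChevalleyStructure.Ree3.Span

open Matrix Cfsg.Lie Cfsg.Agent.ChevalleyStructure.Ree3.G2F3 Cfsg.Agent.ChevalleyStructure.Ree3.Packed
  Cfsg.Agent.ChevalleyStructure.Ree3.Check Cfsg.Agent.ChevalleyStructure.Ree3.Semilin
  Cfsg.Agent.ChevalleyStructure.Ree3.RelChk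
open Cfsg.Agent.ChevalleyStructure.Ree3.K8 (K8)

theorem toVec_inj {l m : List ℕ} (hl : Small l) (hm : Small m) (h : toVec l = toVec m) : l = m := by
  apply List.ext_getElem (by rw [hl.1, hm.1])
  intro j h1 h2
  have hj : j < 14 := by rw [hl.1] at h1; exact h1
  have key : ∀ i : chevG2.Idx, pos i = j → l.getD j 0 = m.getD j 0 := by
    intro i hi
    have h3 := congrFun h i
    change ((l.getD (pos i) 0 : ℕ) : ZMod 3) = ((m.getD (pos i) 0 : ℕ) : ZMod 3) at h3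
    rw [hi] at h3
    have h4 := congrArg ZMod.val h3
    rwa [ZMod.val_natCast_of_lt (hl.2 j), ZMod.val_natCast_of_lt (hm.2 j)] at h4
  have h5 : l.getD j 0 = m.getD j 0 := by
    by_cases hj2 : j < 2
    · exact key (Sum.inl ⟨j, hj2⟩) rfl
    · refine key (Sum.inr ⟨j - 2, ?_⟩) ?_
      · change j - 2 < 12
        omega
      · change j - 2 + 2 = j
        omega
  rw [List.getD_eq_getElem?_getD, List.getD_eq_getElem?_getD, List.getElem?_eq_getElem h1,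
    List.getElem?_eq_getElem h2] at h5
  exact h5

theorem vtab_inj : (vtab.all fun e => vtab.all fun f => Nat.beq e.1 f.1 || !(e.2 == f.2)) = true := by
  decide +kernel

theorem vec_inj {M N : M2} (hM : Om M) (hN : Om N) (h : Semilin.vec M = Semilin.vec N) : M = N := by
  rw [vec_of_Om hM, vec_of_Om hN] at h
  obtain ⟨h1, h2⟩ := Om_eq hM
  obtain ⟨h3, h4⟩ := Om_eq hN
  have h5 := toVec_inj (small_look _ _ _ h2) (small_look _ _ _ h4) h
  have h6 := List.all_eq_true.1 (List.all_eq_true.1 vtab_inj _ (mem_vtab _ _ _ h2)) _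
    (mem_vtab _ _ _ h4)
  have h7 : key (M 0 0) (M 0 1) (M 1 0) = key (N 0 0) (N 0 1) (N 1 0) := by
    simp only at h6
    rw [h5] at h6
    simp only [beq_self_eq_true, Bool.not_true, Bool.or_false] at h6
    exact Nat.eq_of_beq_eq_true h6
  have a1 := key_div (M 0 0).v (M 0 1).v (M 1 0).v
  have a2 := key_div (N 0 0).v (N 0 1).v (N 1 0).v
  have b1 : M 0 0 = N 0 0 := by
    rw [show M 0 0 = ⟨(M 0 0).v⟩ from rfl, ← a1.1, show N 0 0 = ⟨(N 0 0).v⟩ from rfl, ← a2.1]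
    rw [show key ⟨(M 0 0).v⟩ ⟨(M 0 1).v⟩ ⟨(M 1 0).v⟩ = key (M 0 0) (M 0 1) (M 1 0) from rfl, h7]
  have b2 : M 0 1 = N 0 1 := by
    rw [show M 0 1 = ⟨(M 0 1).v⟩ from rfl, ← a1.2.1, show N 0 1 = ⟨(N 0 1).v⟩ from rfl, ← a2.2.1]
    rw [show key ⟨(M 0 0).v⟩ ⟨(M 0 1).v⟩ ⟨(M 1 0).v⟩ = key (M 0 0) (M 0 1) (M 1 0) from rfl, h7]
  have b3 : M 1 0 = N 1 0 := by
    rw [show M 1 0 = ⟨(M 1 0).v⟩ from rfl, ← a1.2.2, show N 1 0 = ⟨(N 1 0).v⟩ from rfl, ← a2.2.2]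
    rw [show key ⟨(M 0 0).v⟩ ⟨(M 0 1).v⟩ ⟨(M 1 0).v⟩ = key (M 0 0) (M 0 1) (M 1 0) from rfl, h7]
  ext i j
  fin_cases i <;> fin_cases j
  · exact b1
  · exact b2
  · exact b3
  · change M 1 1 = N 1 1
    rw [h1, h3, b1]

def bkeys : List ℕ := [9, 21, 30, 39, 42, 51, 60, 143, 150, 156, 163, 173, 178, 185]

def bvecs : List (List ℕ) := [[0, 0, 1, 0, 0, 0, 0, 0, 0, 0, 0, 0, 0, 0],
  [2, 0, 1, 1, 0, 0, 0, 1, 1, 0, 0, 0, 1, 1],
  [2, 1, 2, 2, 1, 1, 0, 1, 2, 0, 1, 2, 2, 1],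
  [1, 2, 2, 0, 0, 1, 0, 0, 0, 1, 0, 1, 1, 1],
  [2, 2, 1, 2, 1, 2, 2, 0, 1, 2, 1, 0, 2, 1],
  [0, 1, 1, 0, 1, 2, 1, 2, 2, 1, 0, 2, 1, 1],
  [2, 0, 1, 1, 2, 1, 2, 2, 0, 0, 1, 1, 2, 1],
  [2, 1, 1, 2, 1, 0, 1, 0, 0, 0, 2, 0, 0, 2],
  [0, 2, 1, 1, 0, 1, 1, 1, 2, 2, 1, 0, 1, 2],
  [2, 0, 1, 2, 1, 1, 0, 0, 2, 2, 1, 2, 1, 1],
  [0, 2, 1, 0, 1, 1, 1, 2, 2, 1, 0, 2, 2, 1],
  [2, 2, 2, 0, 1, 1, 2, 2, 2, 2, 1, 1, 0, 2],
  [2, 2, 2, 2, 2, 2, 1, 0, 2, 1, 1, 0, 2, 2],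
  [0, 0, 0, 0, 0, 0, 0, 0, 0, 0, 0, 0, 0, 2]]

def binv : List (List ℕ) := [[2, 2, 1, 0, 1, 0, 0, 0, 0, 2, 2, 1, 1, 0],
  [1, 2, 0, 0, 0, 2, 1, 1, 1, 0, 2, 2, 0, 0],
  [0, 0, 0, 2, 1, 2, 1, 1, 1, 1, 0, 1, 2, 0],
  [1, 0, 0, 1, 0, 1, 0, 2, 0, 0, 1, 1, 1, 0],
  [2, 1, 0, 0, 0, 1, 1, 1, 1, 1, 0, 0, 0, 0],
  [1, 0, 0, 1, 1, 1, 1, 1, 2, 2, 0, 2, 0, 0],
  [2, 0, 0, 2, 0, 2, 0, 2, 2, 2, 2, 1, 2, 0],
  [0, 0, 0, 1, 1, 2, 0, 2, 1, 2, 2, 0, 2, 0],
  [1, 2, 0, 1, 2, 2, 1, 0, 0, 1, 0, 1, 0, 0],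
  [1, 2, 0, 0, 1, 0, 2, 2, 1, 0, 1, 0, 1, 0],
  [0, 1, 0, 0, 1, 0, 2, 2, 1, 0, 1, 1, 0, 0],
  [2, 0, 0, 0, 1, 0, 0, 2, 0, 1, 2, 0, 0, 0],
  [1, 1, 0, 2, 2, 1, 1, 0, 2, 2, 1, 0, 0, 0],
  [1, 0, 0, 2, 1, 1, 0, 2, 0, 0, 2, 1, 1, 2]]

theorem binv_check : ∀ i j : Fin 14, (∑ k : Fin 14, ent bvecs k i * ent binv k j) =
    if i = j then 1 else 0 := by
  decide +kernel

/-- the matrix with a given key -/
def ofKey (k : ℕ) : M2 :=
  !![Cfsg.Agent.ChevalleyStructure.Ree3.K8.mk (k / 64), Cfsg.Agent.ChevalleyStructure.Ree3.K8.mk (k / 8);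
    Cfsg.Agent.ChevalleyStructure.Ree3.K8.mk k, Cfsg.Agent.ChevalleyStructure.Ree3.K8.mk (k / 64) + 1]

theorem bvec_check : ∀ k : Fin 14,
    (Cfsg.Agent.ChevalleyStructure.Ree3.K8.mk (bkeys.getD k 0 / 64) *
      (Cfsg.Agent.ChevalleyStructure.Ree3.K8.mk (bkeys.getD k 0 / 64) + 1) +
      Cfsg.Agent.ChevalleyStructure.Ree3.K8.mk (bkeys.getD k 0 / 8) *
      Cfsg.Agent.ChevalleyStructure.Ree3.K8.mk (bkeys.getD k 0) = 1) ∧
    look vtab (key (Cfsg.Agent.ChevalleyStructure.Ree3.K8.mk (bkeys.getD k 0 / 64))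
      (Cfsg.Agent.ChevalleyStructure.Ree3.K8.mk (bkeys.getD k 0 / 8))
      (Cfsg.Agent.ChevalleyStructure.Ree3.K8.mk (bkeys.getD k 0))) = bvecs.getD k [] := by
  decide +kernel

theorem Om_of {M : M2} (h1 : M 1 1 = M 0 0 + 1) (h2 : M 0 0 * (M 0 0 + 1) + M 0 1 * M 1 0 = 1) :
    Om M := by
  constructor
  · rw [Matrix.trace_fin_two, h1]
    have := CharTwo.add_self_eq_zero (M 0 0)
    linear_combination this
  · rw [Matrix.det_fin_two, h1]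
    have := CharTwo.add_self_eq_zero (M 0 1 * M 1 0)
    linear_combination h2 - this

theorem Om_ofKey (k : Fin 14) : Om (ofKey (bkeys.getD k 0)) :=
  Om_of rfl (bvec_check k).1

theorem vec_ofKey (k : Fin 14) : Semilin.vec (ofKey (bkeys.getD k 0)) = toVec (bvecs.getD k []) := by
  rw [vec_of_Om (Om_ofKey k)]
  exact congrArg toVec (bvec_check k).2

/-- the position as an element of `Fin 14` -/
def posF (i : chevG2.Idx) : Fin 14 := ⟨pos i, Cfsg.Agent.ChevalleyStructure.Ree3.G2Run.pos_lt i⟩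

theorem posF_inj : ∀ i j : chevG2.Idx, posF i = posF j ↔ i = j := by
  rintro (i | i) (j | j)
  · constructor
    · intro h
      have h0 : (posF (Sum.inl i)).val = (posF (Sum.inl j)).val := congrArg Fin.val h
      have : i.val = j.val := h0
      rw [Fin.ext this]
    · rintro h; rw [h]
  · constructor
    · intro h
      have h1 : i.val = j.val + 2 := congrArg Fin.val h
      have := i.isLt
      change i.val < 2 at this
      omega
    · intro h; cases h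
  · constructor
    · intro h
      have h1 : i.val + 2 = j.val := congrArg Fin.val h
      have := j.isLt
      change j.val < 2 at this
      omega
    · intro h; cases h
  · constructor
    · intro h
      have h1 : i.val + 2 = j.val + 2 := congrArg Fin.val h
      have : i.val = j.val := by omega
      rw [Fin.ext this]
    · rintro h; rw [h]

theorem eq_one_of_fix (g : Matrix chevG2.Idx chevG2.Idx (ZMod 3))
    (h : ∀ M : M2, Om M → g *ᵥ Semilin.vec M = Semilin.vec M) : g = 1 := by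
  let B : Matrix chevG2.Idx (Fin 14) (ZMod 3) := Matrix.of fun i k => toVec (bvecs.getD k []) i
  let C : Matrix (Fin 14) chevG2.Idx (ZMod 3) := Matrix.of fun k j => ent binv k (pos j)
  have hBC : B * C = 1 := by
    ext i j
    rw [Matrix.mul_apply, Matrix.one_apply]
    have h1 := binv_check (posF i) (posF j)
    simp only [posF_inj] at h1
    exact h1
  have hgB : g * B = B := by
    ext i k
    have h1 := congrFun (h _ (Om_ofKey k)) i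
    rw [vec_ofKey] at h1
    exact h1
  calc g = g * (B * C) := by rw [hBC, Matrix.mul_one]
    _ = (g * B) * C := by rw [Matrix.mul_assoc]
    _ = 1 := by rw [hgB, hBC]

theorem comm_check : ∀ p q r s : Fin 8,
    ((⟨p⟩ : K8) * ⟨s⟩ + ⟨q⟩ * ⟨r⟩ = 1) → (⟨q⟩ : K8) = ⟨r⟩ → (⟨p⟩ : K8) + ⟨q⟩ = ⟨s⟩ →
      (⟨q⟩ : K8) * Cfsg.Agent.ChevalleyStructure.Ree3.K8.mk 5 =
        Cfsg.Agent.ChevalleyStructure.Ree3.K8.mk 2 * ⟨r⟩ →
      (⟨p⟩ : K8) * Cfsg.Agent.ChevalleyStructure.Ree3.K8.mk 2 + ⟨q⟩ =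
        Cfsg.Agent.ChevalleyStructure.Ree3.K8.mk 2 * ⟨s⟩ →
      (⟨p⟩ : K8) = 1 ∧ (⟨q⟩ : K8) = 0 ∧ (⟨r⟩ : K8) = 0 ∧ (⟨s⟩ : K8) = 1 := by
  decide +kernel

theorem eq_one_of_conj (C : SL) (h : ∀ M : M2, Om M → conjPerm C M = M) : C = 1 := by
  have hcomm : ∀ M : M2, Om M → toM C * M = M * toM C := by
    intro M hM
    have h1 := h M hM
    rw [conjPerm_apply] at h1
    calc toM C * M = toM C * M * (toM C⁻¹ * toM C) := by rw [toM_inv_mul, Matrix.mul_one]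
      _ = (toM C * M * toM C⁻¹) * toM C := by simp only [Matrix.mul_assoc]
      _ = M * toM C := by rw [h1]
  have hdet : toM C 0 0 * toM C 1 1 + toM C 0 1 * toM C 1 0 = 1 := by
    have h1 : (toM C).det = 1 := C.2
    rw [Matrix.det_fin_two] at h1
    have := CharTwo.add_self_eq_zero (toM C 0 1 * toM C 1 0)
    linear_combination h1 + this
  have h1 := hcomm !![0, 1; 1, 1] (Om_of (by decide +kernel) (by decide +kernel))
  have h2 := hcomm !![0, Cfsg.Agent.ChevalleyStructure.Ree3.K8.mk 2;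
    Cfsg.Agent.ChevalleyStructure.Ree3.K8.mk 5, 1] (Om_of (by decide +kernel) (by decide +kernel))
  have e1 := congrFun (congrFun h1 0) 0
  have e2 := congrFun (congrFun h1 0) 1
  have e3 := congrFun (congrFun h2 0) 0
  have e4 := congrFun (congrFun h2 0) 1
  simp [Matrix.mul_apply, Fin.sum_univ_two] at e1 e2 e3 e4
  have e5 := comm_check (toM C 0 0).v (toM C 0 1).v (toM C 1 0).v (toM C 1 1).v hdet e1 e2 e3 e4
  obtain ⟨f1, f2, f3, f4⟩ := e5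
  have : toM C = 1 := by
    ext i j
    fin_cases i <;> fin_cases j
    · exact f1
    · exact f2
    · exact f3
    · exact f4
  exact Subtype.ext this

end Cfsg.Agent.ChevalleyStructure.Ree3.Span
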